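/-
The reflections in the roots of the 12-dimensional module.
-/
import Cfsg.Agent.SPOR.F24P.Op
import Cfsg.Agent.SPOR.F24.Pk

set_option autoImplicit false
set_option maxRecDepth 100000
set_option maxHeartbeats 400000

namespace CL.F24P

open CL.K CL.CG CL.F2M CL.F24 MulAction

attribute [local irreducible] gcode vcode

/-- the reflection in `u` -/
noncomputable def rfun (u v : W) : W := v + (bf v (Z0 • u) • u + bf v u • Z0 • u)

theorem vlt (v : W) : vcode v < 4096 := vcode_lt v

theorem zc_code (v : W) : zc (vcode v) = vcode (Z0 • v) := by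
  have hc : allN (fun c => Nat.beq (zc c) (ac cZ c)) 4096 = true := by decide +kernel
  rw [← ac_code, code_Z0]
  exact Nat.eq_of_beq_eq_true (allN_spec hc _ (vlt v))

theorem hc_code (w u : W) : hc (vcode w) (vcode u) = (bf w (Z0 • u)).val + 2 * (bf w u).val := by
  simp only [hc, force_eq, zc_code, bC_code]
  generalize bf w (Z0 • u) = s, bf w u = t
  revert s t; decide

theorem sm_code (s t : ZMod 2) (u : W) :
    sm (s.val + 2 * t.val) (vcode u) = vcode (s • u + t • Z0 • u) := by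
  simp only [sm, force_eq, zc_code]
  rcases z2_cases s with rfl | rfl <;> rcases z2_cases t with rfl | rfl
  · rw [zero_smul, zero_smul, add_zero, vcode_zero]
    exact congrArg₂ Nat.xor (Nat.zero_mul _) (Nat.zero_mul _)
  · rw [zero_smul, one_smul, zero_add]
    exact (congrArg₂ Nat.xor (Nat.zero_mul _) (Nat.one_mul _)).trans (Nat.zero_xor _)
  · rw [zero_smul, one_smul, add_zero]
    exact (congrArg₂ Nat.xor (Nat.one_mul _) (Nat.zero_mul _)).trans (Nat.xor_zero _)
  · rw [one_smul, one_smul, vcode_add]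
    exact congrArg₂ Nat.xor (Nat.one_mul _) (Nat.one_mul _)

theorem rc_code (u v : W) : rc (vcode u) (vcode v) = vcode (rfun u v) := by
  simp only [rc, force_eq]
  rw [hc_code, sm_code, rfun, vcode_add v]; rfl

/-- a unitary map -/
structure Iso (δ : GL12) : Prop where
  cz : δ * Z0 = Z0 * δ
  q : ∀ v : W, qf (δ • v) = qf v

theorem Iso.mul {δ ε : GL12} (h : Iso δ) (h' : Iso ε) : Iso (δ * ε) :=
  ⟨by rw [mul_assoc, h'.cz, ← mul_assoc, h.cz, mul_assoc], fun v => by rw [mul_smul, h.q, h'.q]⟩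

theorem Iso.inv {δ : GL12} (h : Iso δ) : Iso δ⁻¹ :=
  ⟨(Commute.inv_left h.cz).eq, fun v => by rw [← h.q, smul_inv_smul]⟩

theorem Iso.z {δ : GL12} (h : Iso δ) (u : W) : δ • Z0 • u = Z0 • δ • u := by
  rw [← mul_smul, h.cz, mul_smul]

theorem Iso.zi {δ : GL12} (h : Iso δ) (u : W) : δ • Z0⁻¹ • u = Z0⁻¹ • δ • u := by
  rw [← mul_smul, (Commute.inv_right h.cz).eq, mul_smul]

theorem Iso.b {δ : GL12} (h : Iso δ) (u v : W) : bf (δ • u) (δ • v) = bf u v := bf_smul h.q u v

theorem smul_z2 (δ : GL12) (c : ZMod 2) (v : W) : δ • c • v = c • δ • v := by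
  rcases z2_cases c with rfl | rfl
  · rw [zero_smul, zero_smul, smul_zero]
  · rw [one_smul, one_smul]

theorem Iso.rfun {δ : GL12} (h : Iso δ) (u v : W) : δ • rfun u v = rfun (δ • u) (δ • v) := by
  rw [F24P.rfun, F24P.rfun, smul_add, smul_add, smul_z2, smul_z2, h.z, ← h.b v u, ← h.b v, h.z]

theorem orb_smul {K X : Type*} [Group K] [MulAction K X] {H : Subgroup K} {w v : X}
    (h : v ∈ orbit H w) {δ : K} (hδ : δ ∈ H) : δ • v ∈ orbit H w := by
  obtain ⟨ε, rfl⟩ := h
  exact ⟨⟨δ, hδ⟩ * ε, mul_smul δ (ε : K) w⟩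

theorem iso_Γ0 {δ : GL12} (h : δ ∈ Γ0) : Iso δ := by
  refine ⟨comm_Z0 h, fun v => ?_⟩
  have h1 : qf (δ • v) = 1 ↔ qf v = 1 := by
    rw [(vec_cases _).2, (vec_cases _).2]
    refine ⟨fun h2 => ?_, fun h2 => orb_smul h2 h⟩
    have := orb_smul h2 (inv_mem h)
    rwa [inv_smul_smul] at this
  generalize qf (δ • v) = s, qf v = t at h1
  revert s t; decide

/-- a root -/
def Root (u : W) : Prop := u ∈ orbit Γ0 r0

theorem root_iff {u : W} : Root u ↔ S5.testBit (vcode u) = true := orbit_r0.2 u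

theorem root_dec {c : ℕ} (hc : c < 4096) (h : S5.testBit c = true) : Root (vdec 12 c) := by
  rw [root_iff, vcode_vdec (n := 12) hc]; exact h

theorem root_r0 : Root r0 := mem_orbit_self _

theorem Root.smul {u : W} (h : Root u) {δ : GL12} (hδ : δ ∈ Γ0) : Root (δ • u) :=
  orb_smul h hδ

theorem Root.exists {u : W} (h : Root u) : ∃ δ ∈ Γ0, δ • r0 = u :=
  let ⟨δ, e⟩ := h
  ⟨δ, δ.2, e⟩

theorem Root.ne {u : W} (h : Root u) : u ≠ 0 := fun e => by
  rw [root_iff, e, vcode_zero] at h
  exact absurd h (by decide +kernel)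

/-- code of the reflection in `r0` -/
def cR0 : ℕ := 0x800400200100080040020010002001008004

theorem top_cR0 : Mem (gcode : GL12 → ℕ) ⊤ cR0 := ok12.mem_of_unitB (b := cR0) (by decide +kernel)

/-- the reflection in `r0` -/
noncomputable def R0 : GL12 := elt gcode cR0

theorem code_R0 : gcode R0 = cR0 := top_cR0.code_elt

theorem R0_sq : R0 * R0 = 1 :=
  C12.inj (by rw [← C12.map_mul, code_R0, C12.map_one]; decide +kernel)

theorem R0_inv : R0⁻¹ = R0 := inv_eq_of_mul_eq_one_right R0_sq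

theorem R0_check : allN (fun c => force (ac cR0 c) fun d => Nat.beq d (rc 5 c) &&
    Nat.beq (qC d) (qC c)) 4096 = true := by decide +kernel

theorem R0_smul (v : W) : R0 • v = rfun r0 v := by
  have := allN_spec R0_check _ (vlt v)
  rw [force_eq, Bool.and_eq_true, Nat.beq_eq] at this
  exact vcode_injective (by rw [← ac_code, code_R0, this.1, ← rc_code, code_r0])

theorem iso_R0 : Iso R0 := by
  refine ⟨C12.inj (by rw [← C12.map_mul, ← C12.map_mul, code_R0, code_Z0]; decide +kernel),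
    fun v => ?_⟩
  have := allN_spec R0_check _ (vlt v)
  rw [force_eq, Bool.and_eq_true, Nat.beq_eq, Nat.beq_eq, ← code_R0, ac_code, qC_code,
    qC_code] at this
  exact ZMod.val_injective _ this.2

theorem R0_r0 : R0 • r0 = r0 :=
  vcode_injective (by rw [← ac_code, code_R0, code_r0]; decide +kernel)

theorem R0_norm {g : GL12} (hg : g ∈ Γ0) : R0 * g * R0 ∈ Γ0 := by
  have h1 := C12.mem_of_wordsB mem_L0 (W := [(cZ, [0]), (cwfw, [4, 1, 4]), (ct, [2]),
    (mm cd cd, [3, 3]), (cw, [4])]) (by decide +kernel)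
  have h2 : Γ0 ≤ Γ0.comap (MulAut.conj R0).toMonoidHom := (C12.gen_le_iff top_L0).2 fun c hc => by
    change R0 * elt gcode c * R0⁻¹ ∈ Γ0
    rw [R0_inv, ← C12.mem_iff, ← C12.map_mul, ← C12.map_mul, code_R0, (top_L0 c hc).code_elt]
    refine h1 _ ?_
    revert c
    decide +kernel
  have : R0 * g * R0⁻¹ ∈ Γ0 := h2 hg
  rwa [R0_inv] at this

/-- the reflection in `u` as a matrix -/
noncomputable def rf (u : W) : GL12 := Classical.epsilon fun r : GL12 => ∀ v, r • v = rfun u v

theorem conj_R0_smul {δ : GL12} (h : Iso δ) (v : W) : (δ * R0 * δ⁻¹) • v = rfun (δ • r0) v := by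
  rw [mul_smul, mul_smul, R0_smul, h.rfun, smul_inv_smul]

theorem Root.rf_smul {u : W} (h : Root u) (v : W) : rf u • v = rfun u v := by
  obtain ⟨δ, hδ, rfl⟩ := h.exists
  exact Classical.epsilon_spec (p := fun r : GL12 => ∀ v, r • v = rfun (δ • r0) v)
    ⟨_, conj_R0_smul (iso_Γ0 hδ)⟩ v

theorem rf_eq {δ : GL12} (hδ : δ ∈ Γ0) : rf (δ • r0) = δ * R0 * δ⁻¹ :=
  gl_ext fun v => by rw [(root_r0.smul hδ).rf_smul, conj_R0_smul (iso_Γ0 hδ)]

theorem rf_conj {δ : GL12} (h : Iso δ) {u : W} (hu : Root u) (hu' : Root (δ • u)) :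
    rf (δ • u) = δ * rf u * δ⁻¹ :=
  gl_ext fun v => by rw [hu'.rf_smul, mul_smul, mul_smul, hu.rf_smul, h.rfun, smul_inv_smul]

theorem rf_conj0 {δ : GL12} (h : δ ∈ Γ0) {u : W} (hu : Root u) : rf (δ • u) = δ * rf u * δ⁻¹ :=
  rf_conj (iso_Γ0 h) hu (hu.smul h)

namespace Root

variable {u v : W} (h : Root u)
include h

theorem iso : Iso (rf u) := by
  obtain ⟨δ, hδ, rfl⟩ := h.exists
  rw [rf_eq hδ]; exact ((iso_Γ0 hδ).mul iso_R0).mul (iso_Γ0 hδ).inv

theorem sq : rf u * rf u = 1 := by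
  obtain ⟨δ, hδ, rfl⟩ := h.exists
  rw [rf_eq hδ]
  calc δ * R0 * δ⁻¹ * (δ * R0 * δ⁻¹) = δ * (R0 * R0) * δ⁻¹ := by group
    _ = 1 := by rw [R0_sq]; group

theorem inv : (rf u)⁻¹ = rf u := inv_eq_of_mul_eq_one_right h.sq

theorem mul_mem (h' : Root v) : rf u * rf v ∈ Γ0 := by
  obtain ⟨δ, hδ, rfl⟩ := h.exists
  obtain ⟨ε, hε, rfl⟩ := h'.exists
  rw [rf_eq hδ, rf_eq hε, show δ * R0 * δ⁻¹ * (ε * R0 * ε⁻¹) = δ * (R0 * (δ⁻¹ * ε) * R0) * ε⁻¹ by
    group]
  exact Γ0.mul_mem (Γ0.mul_mem hδ (R0_norm (Γ0.mul_mem (inv_mem hδ) hε))) (inv_mem hε)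

theorem refl (h' : Root v) : Root (rf u • v) := by
  obtain ⟨ε, hε, rfl⟩ := h'.exists
  have h1 : rf u * rf (ε • r0) ∈ Γ0 := h.mul_mem (root_r0.smul hε)
  have h2 : rf (ε • r0) • ε • r0 = ε • r0 := by
    rw [rf_eq hε, mul_smul, mul_smul, inv_smul_smul, R0_r0]
  rw [← h2, ← mul_smul]
  exact (root_r0.smul hε).smul h1

theorem conj (h' : Root v) : rf (rf u • v) = rf u * rf v * rf u := by
  rw [rf_conj h.iso h' (h.refl h'), h.inv]

theorem z : Root (Z0 • u) := h.smul Z0_mem

theorem rf_z : rf (Z0 • u) = rf u := by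
  rw [rf_conj0 Z0_mem h, ← h.iso.cz, mul_inv_cancel_right]

theorem fix : rf u • u = u := by
  obtain ⟨ε, hε, rfl⟩ := h.exists
  rw [rf_eq hε, mul_smul, mul_smul, inv_smul_smul, R0_r0]

theorem fix_iff (v : W) : rf u • v = v ↔ hc (vcode v) (vcode u) = 0 := by
  rw [h.rf_smul, hc_code, rfun, add_eq_left]
  have h0 := h.ne
  have h1 : Z0 • u ≠ 0 := h.z.ne
  have h2 : u + Z0 • u ≠ 0 := by rw [add_Z0]; exact (h.smul (inv_mem Z0_mem)).ne
  rcases z2_cases (bf v (Z0 • u)) with e | e <;> rcases z2_cases (bf v u) with e' | e' <;>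
    rw [e, e']
  · simp
  · rw [zero_smul, one_smul, zero_add]; exact iff_of_false h1 (by decide)
  · rw [zero_smul, one_smul, add_zero]; exact iff_of_false h0 (by decide)
  · rw [one_smul, one_smul]; exact iff_of_false h2 (by decide)

theorem code : gcode (rf u) = cols 12 fun j => rc (vcode u) (2 ^ j) := by
  unfold gcode
  refine mcode_eq_cols fun j => ?_
  rw [← gl_smul, h.rf_smul, ← rc_code, ← vdec_two_pow,
    vcode_vdec (Nat.pow_lt_pow_right (by decide) j.2)]

end Root

theorem rf_eq_of_code {u v : W} (hu : Root u) (h : vcode v = vcode u ∨ vcode v = zc (vcode u) ∨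
    vcode v = zc (zc (vcode u))) : rf v = rf u := by
  rw [zc_code, zc_code] at h
  rcases h with h | h | h <;> rw [vcode_injective h]
  · exact hu.rf_z
  · rw [hu.z.rf_z, hu.rf_z]

theorem Root.braid {u v : W} (hu : Root u) (hv : Root v) (h : rf u • v ≠ v) :
    (rf u * rf v) ^ 3 = 1 := by
  have hc' : allN (fun c => !S5.testBit c || Nat.beq (hc c 5) 0 || force (rc c 5) fun d =>
      force (rc 5 c) fun e => Nat.beq e d || Nat.beq e (zc d) || Nat.beq e (zc (zc d))) 4096 =
      true := by decide +kernel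
  have key : ∀ v, Root v → rf r0 • v ≠ v → (rf r0 * rf v) ^ 3 = 1 := fun v hv h => by
    have h1 := allN_spec hc' _ (vlt v)
    simp only [force_eq, Bool.or_eq_true, Nat.beq_eq, Bool.not_eq_true', root_iff.1 hv,
      Bool.true_eq_false, false_or] at h1
    rw [← code_r0, rc_code, rc_code, ← root_r0.rf_smul, ← hv.rf_smul, ← root_r0.fix_iff,
      or_assoc] at h1
    have h2 := rf_eq_of_code (hv.refl root_r0) (h1.resolve_left h)
    rw [root_r0.conj hv, hv.conj root_r0] at h2
    calc (rf r0 * rf v) ^ 3 = (rf r0 * rf v * rf r0) * (rf v * rf r0 * rf v) := by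
          rw [pow_three]; simp only [mul_assoc]
      _ = rf v * (rf r0 * (rf v * rf v) * rf r0) * rf v := by rw [h2]; simp only [mul_assoc]
      _ = 1 := by rw [hv.sq, mul_one, root_r0.sq, mul_one, hv.sq]
  obtain ⟨δ, hδ, rfl⟩ := hu.exists
  have h1 := key (δ⁻¹ • v) (hv.smul (inv_mem hδ)) fun e => h (by
    rw [rf_conj0 hδ root_r0, mul_smul, mul_smul, e, smul_inv_smul])
  rw [rf_conj0 (inv_mem hδ) hv] at h1
  rw [rf_conj0 hδ root_r0,
    show δ * rf r0 * δ⁻¹ * rf v = δ * (rf r0 * (δ⁻¹ * rf v * δ⁻¹⁻¹)) * δ⁻¹ by group, conj_pow, h1]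
  group

/-- orthogonal roots of different points -/
structure OP (u v : W) : Prop where
  l : Root u
  r : Root v
  fix : rf u • v = v
  ne : rf u ≠ rf v

theorem OP.smul {u v : W} (h : OP u v) {δ : GL12} (hδ : δ ∈ Γ0) : OP (δ • u) (δ • v) := by
  refine ⟨h.l.smul hδ, h.r.smul hδ, ?_, ?_⟩
  · rw [rf_conj0 hδ h.l, mul_smul, mul_smul, inv_smul_smul, h.fix]
  · rw [rf_conj0 hδ h.l, rf_conj0 hδ h.r]
    simpa using h.ne

/-- the second root of the frame -/
def u1 : W := vdec 12 80

/-- the third root of the frame -/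
def u2 : W := vdec 12 1280

theorem code_u1 : vcode u1 = 80 := vcode_vdec (by norm_num)

theorem root_u1 : Root u1 := root_dec (by norm_num) (by decide +kernel)

theorem root_u2 : Root u2 := root_dec (by norm_num) (by decide +kernel)

theorem mem_rr {A L : List ℕ} (h : (A.all (fun a => Nat.blt a 4096 && S5.testBit a) &&
    CE.leq L (A.map fun a => mm (cols 12 fun j => rc a (2 ^ j)) (cols 12 fun j => rc 5 (2 ^ j)))) =
    true) : ∀ c ∈ L, Mem gcode Γ0 c := by
  simp only [Bool.and_eq_true, List.all_eq_true, Nat.blt_eq] at h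
  rw [CE.eq_of_leq h.2]
  intro c hc
  obtain ⟨a, ha, rfl⟩ := List.mem_map.1 hc
  have h1 := root_dec (h.1 a ha).1 (h.1 a ha).2
  refine ⟨_, h1.mul_mem root_r0, ?_⟩
  rw [← C12.map_mul, h1.code, root_r0.code, vcode_vdec (n := 12) (h.1 a ha).1, code_r0]

theorem ne_of_rf {u v : W} (hu : Root u) (h : rf u ≠ rf v) : vcode v ≠ vcode u ∧
    vcode v ≠ zc (vcode u) ∧ vcode v ≠ zc (zc (vcode u)) :=
  ⟨fun e => h (rf_eq_of_code hu (.inl e)).symm, fun e => h (rf_eq_of_code hu (.inr (.inl e))).symm,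
    fun e => h (rf_eq_of_code hu (.inr (.inr e))).symm⟩

theorem trans2 {v : W} (h : OP r0 v) : ∃ δ ∈ Γ0, δ • r0 = r0 ∧ δ • u1 = v := by
  have hL := mem_rr (A := [1791,1962,1983,2031,2037]) (L := [0x3552ff4ffcaad2ab15d8ab45da8b54da2b51, 0x1ff3aac558ff72ae1578ae457a8e547a2e51, 0x1d53bfc6a8d573fe2ae4a9c5e689d4e629d1, 0x1753efc9a875e1a9357cfe8ae98974e92971, 0x15a3f5caf85ae2f91ae8f94a9587f49527f1]) (by decide +kernel)
  obtain ⟨S, m, hk, -, hS⟩ := A12.orbA_eq C12 hL (b := 80) (by norm_num)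
    (k := fun S _ => allN (fun c => !S5.testBit c || !Nat.beq (hc c 5) 0 || Nat.beq c 5 ||
      Nat.beq c (zc 5) || Nat.beq c (zc (zc 5)) || S.testBit c) 4096) (by decide +kernel)
  have h1 := allN_spec hk _ (vlt v)
  obtain ⟨h2, h3, h4⟩ := ne_of_rf root_r0 h.ne
  have h5 := (root_r0.fix_iff v).1 h.fix
  rw [code_r0] at h2 h3 h4 h5
  simp only [Bool.or_eq_true, Nat.beq_eq, Bool.not_eq_true', root_iff.1 h.r, h2, h3, h4, h5,
    Nat.beq_refl, Bool.true_eq_false, false_or] at h1
  obtain ⟨δ, e⟩ := (hS v).2 h1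
  exact ⟨δ, C12.gen_le hL δ.2,
    fix_of_gen (fun c hc => (hL c hc).top) (b := 5) (by norm_num) (by decide +kernel) δ.2, e⟩

theorem trans3 {w : W} (h : OP r0 w) (h' : OP u1 w) :
    ∃ δ ∈ Γ0, δ • r0 = r0 ∧ δ • u1 = u1 ∧ rf (δ • u2) = rf w := by
  have hL := mem_rr (A := [1791,1887,1962,2037]) (L := [0x3552ff4ffcaad2ab15d8ab45da8b54da2b51, 0x1a535fcfa8a592571f98574fef89a4ef29a1, 0x1ff3aac558ff72ae1578ae457a8e547a2e51, 0x15a3f5caf85ae2f91ae8f94a9587f49527f1]) (by decide +kernel)
  obtain ⟨S, m, hk, -, hS⟩ := A12.orbA_eq C12 hL (b := 1280) (by norm_num)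
    (k := fun S _ => allN (fun c => !S5.testBit c || !Nat.beq (hc c 5) 0 || !Nat.beq (hc c 80) 0 ||
      Nat.beq c 5 || Nat.beq c (zc 5) || Nat.beq c (zc (zc 5)) || Nat.beq c 80 ||
      Nat.beq c (zc 80) || Nat.beq c (zc (zc 80)) || S.testBit c || S.testBit (zc c) ||
      S.testBit (zc (zc c))) 4096) (by decide +kernel)
  have h1 := allN_spec hk _ (vlt w)
  obtain ⟨h2, h3, h4⟩ := ne_of_rf root_r0 h.ne
  obtain ⟨h2', h3', h4'⟩ := ne_of_rf root_u1 h'.ne
  have h5 := (root_r0.fix_iff w).1 h.fix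
  have h5' := (root_u1.fix_iff w).1 h'.fix
  rw [code_r0] at h2 h3 h4 h5
  rw [code_u1] at h2' h3' h4' h5'
  simp only [Bool.or_eq_true, Nat.beq_eq, Bool.not_eq_true', root_iff.1 h.r, h2, h3, h4, h5, h2',
    h3', h4', h5', Nat.beq_refl, Bool.true_eq_false, false_or, zc_code] at h1
  have key : ∀ v : W, S.testBit (vcode v) = true → rf v = rf w →
      ∃ δ ∈ Γ0, δ • r0 = r0 ∧ δ • u1 = u1 ∧ rf (δ • u2) = rf w := fun v hv e' => by
    obtain ⟨δ, e⟩ := (hS v).2 hv
    exact ⟨δ, C12.gen_le hL δ.2,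
      fix_of_gen (fun c hc => (hL c hc).top) (b := 5) (by norm_num) (by decide +kernel) δ.2,
      fix_of_gen (fun c hc => (hL c hc).top) (b := 80) (by norm_num) (by decide +kernel) δ.2,
      (congrArg rf e).trans e'⟩
  rcases h1 with (h1 | h1) | h1
  · exact key _ h1 rfl
  · exact key _ h1 h.r.rf_z
  · exact key _ h1 (h.r.z.rf_z.trans h.r.rf_z)

theorem OP.pair {u v : W} (h : OP u v) : ∃ δ ∈ Γ0, δ • r0 = u ∧ δ • u1 = v := by
  obtain ⟨δ, hδ, rfl⟩ := h.l.exists
  have h1 := h.smul (inv_mem hδ)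
  rw [inv_smul_smul] at h1
  obtain ⟨ε, hε, e1, e2⟩ := trans2 h1
  exact ⟨δ * ε, mul_mem hδ hε, by rw [mul_smul, e1], by rw [mul_smul, e2, smul_inv_smul]⟩

theorem OP.triple {u v w : W} (h : OP u v) (h1 : OP u w) (h2 : OP v w) :
    ∃ δ ∈ Γ0, δ • r0 = u ∧ δ • u1 = v ∧ rf (δ • u2) = rf w := by
  obtain ⟨δ, hδ, rfl, rfl⟩ := h.pair
  have h3 := h1.smul (inv_mem hδ)
  have h4 := h2.smul (inv_mem hδ)
  rw [inv_smul_smul] at h3 h4
  obtain ⟨ε, hε, e1, e2, e3⟩ := trans3 h3 h4
  refine ⟨δ * ε, mul_mem hδ hε, by rw [mul_smul, e1], by rw [mul_smul, e2], ?_⟩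
  rw [mul_smul, rf_conj0 hδ (root_u2.smul hε), e3, ← rf_conj0 hδ h3.r, smul_inv_smul]

/-- the root with number `j` -/
def pv (j : ℕ) : W := vdec 12 (hv j)

theorem hv_lt (j : ℕ) : hv j < 4096 := Nat.lt_succ_of_le (fld_le _ _ _ _)

theorem code_pv (j : ℕ) : vcode (pv j) = hv j := vcode_vdec (hv_lt j)

theorem pv_zero : pv 0 = r0 := rfl

theorem root_pv {j : ℕ} (hj : j < 126) : Root (pv j) := by
  have hc : allLt (fun j => S5.testBit (hv j)) 126 = true := by decide +kernel
  exact root_dec (hv_lt j) (allLt_iff.1 hc j hj)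

theorem Root.rf_idx {u : W} (h : Root u) : rf (pv (idx (vcode u))) = rf u := by
  have hc : allN (fun c => !S5.testBit c || force (hv (idx c)) fun d => Nat.beq d c ||
      Nat.beq d (zc c) || Nat.beq d (zc (zc c))) 4096 = true := by decide +kernel
  have h1 := allN_spec hc _ (vlt u)
  simp only [force_eq, Bool.or_eq_true, Nat.beq_eq, Bool.not_eq_true', root_iff.1 h,
    Bool.true_eq_false, false_or, or_assoc] at h1
  exact rf_eq_of_code h (by rwa [code_pv])

theorem pv_inj {i j : ℕ} (hi : i < 126) (hj : j < 126) (h : rf (pv i) = rf (pv j)) : i = j := by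
  have hc : allLt (fun i => force (hv i) fun u => force (w1 i) fun w => force (rc u w) fun t =>
      Nat.blt w 4096 && allLt (fun j => Nat.beq i j || !Nat.beq (rc (hv j) w) t) 126) 126 =
      true := by decide +kernel
  simp only [allLt_iff, force_eq, Bool.and_eq_true, Bool.or_eq_true, Nat.beq_eq, Nat.blt_eq,
    Bool.not_eq_true'] at hc
  refine ((hc i hi).2 j hj).resolve_right fun e => Nat.ne_of_beq_eq_false e ?_
  rw [← code_pv, ← code_pv, ← vcode_vdec (n := 12) (hc i hi).1, rc_code, rc_code,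
    ← (root_pv hi).rf_smul, ← (root_pv hj).rf_smul, h]

/-- masks of the orthogonal points -/
def om (i : ℕ) : ℕ := fld 126 85070591730234615865843651857942052863 0x2c3505915dc1a6e5892224c0c3288002514c4b06b98a6ccb24509848616200058690b20f3a34dd9490925212480c00c141d8348ce80f742e290c2625211005108ba2681dc456e05891322a232a0018283704d0b9a1acc4a228c525216800161a12c0a6e650b3c186128a4a85c00128a465034ceb237582148a9191209002c34158069dca06ea284c2915132c0340005ddc0b228c069dd49212548911148004bb98960c5809b95118624c8aa068000b73a1641aa0533942a151854684180183ceb06901643ce4a190a1451288a00a25dd44d002c95dd24a490249038300305b9e09a02586b948c911228a29a0002c6e65814a09c2e518a23246298a400251ceca06841a8ce4548a18a51634000585dcb00d31301dd12624a90921058680122bb8166e500d32144aa129c04a290060d7312bcce050c491924a4090b0d00141e742c9d881a30c4518c46c18283006919d60a745904a8943189198a211401d03ba886e0b222945215429630506005a173c13cc160ca25449264212c3400114dccb0f3c26826448924900e5148004699d94275869094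52884519258680010d3b9606ea4d024a4940a294bffffff80000000000000000003fffc30d3b9600002c350b257792449209240c53732c0002514c961ae64452308a28a1a6765000058691643ce90a4a1145129079d0b000c141d06a33a2851522945822bb816005108bc4c077892449a424860d73128018283609c2e623118a46298685cf0400161a15809b98625114c8aa2919d6080128a46a0533a15142985468d03ba88002c341301a77849524522445601a770340005db82c89484a5150a582c0a6e6148004bf305835122894990865034ce868000b6745905430a89891980b20f3a41801839d61a44a225111464816457708a00a25ba934125092828a5212c1ae68300305f3c26848926424900f04d0b99a0002c7cce051190c4a4a40960d233aa4002519d881a45130c8c46c289a07734000585b94035128c8684a70772c0340586801456e05322891a232a2e6581484a290061acc48c5222a52168ceca0680b0d00103dd0b3098a48948473a164198283007237580a92149912097702c8aa211401a06ea229184c5132c2e625833050600542cf04a2a1852a170b9e09a02c3400129b32c26191421858b3ac1a425148004d3765094a42449203775134058680011a6e5824c9220c32880000003ffffff8000000000003fffc305915dc0d3b960000b0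d9219210a29182c83ce8699d94000586a4324304518660d233a41e742c0061418a28a28c463289a07708aee05802908a25225284a4cc1342e6835cc4a00c283889889929014b029b99a173c1000e1a219219126405940d33aa4675820088a4851851624691601a77340eea2001434212a12950a647702c8a58069dc1a0005522522513232e625830b029b98a400494514512a14cce85906940d33a34000b509509644815dd44d00164577114028924524430c86b9e09a012c1ae68600c148a48a21851ae65814b04d0b994000b118518652154ceca06860d233ac80094452452894815dcb00d289a077280016113113288c9422bb816772c0340b1a00324324a424160d7312ae658148942400c44c46462a441e742cceca06816140030a30a8a5192919d60b3a16419050c00a84a8585454d03ba887702c8ac42500292292522415a173c12e6258320a1800a30a313229414dccb0b9e09a0587000262262228a18699d9433ac1a42a2a00095095051446ff80000ff80000ff00000001ff00ff4401ff00001ff00003fc000007fc03fe100003fe00003fe0000ff0001ff00ff2781c0e0381c0e030383800038fcfc0d11c0e0701c0e07038181c000e3f3f03840e070380e070381c1c0c0038fcfc0c992492489249248a48492000fc7c71c89249249124924904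94924003f1f1c71224924922492492492924000fc7c71c29430a2a21454509510614003fe3e382285151422a28614218a2a000ff8f8e048a8a1851430a2a228d140003fe3e380a007fc0000003feff00001ff00000ff440000ffbfe0000003fc007fc00003fe1ff80000007fc000000ff1ff00000ff2470381c00e0703b0383838fc000fc0d10381c0ee07038038181ce3f0003f038781c0e0070381c01c1c0f8fc000fc0c949249242492492a48492fc7000c71c88924924a4924920494927f1c0031c71292492484924924492924fc7000c71c2a1454509430a2a1510617fe0003e38222a286148515142218a2aff8000f8e049430a2a0a8a185228d143fe0003e380a1c01f811c01f813807e003f03f0003140fc01c40fc01c41f80700fc0fc000c5491264949126491229921c71c7001c509324494932449526112471c71c0072492248939224893a452241c71c7001c3214a12a4a90a50c84d2147e07e0038142a4294350952158a412a1f81f800e091425485614a12a55229407e07e00380c462311946231190c4c46e07e07070050c462314c4623158888c781f81c1c02488c462388c4623919188e07e070700322262464c48c88c3244c78e38e0e0014312322346444c5912246e38e38380091191131622624658932238e38e0e000c88a30c54618a23629146fc0fc0c00019186288cc5114664530c7f03f0300006ceb06900b20f3a0300604a44a412487c4b06b9853732c000145244a4489242f0d3b960775134030c0002492490924dc00000000000003fffffc000003ffffbe00e00fe00e00fc0180303f03f0003f4c511466228c314308a23f03f030003e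 i

theorem op_of_om {i j : ℕ} (hi : i < 126) (hj : j < 126) (h : (om i).testBit j = true) :
    OP (pv i) (pv j) ∧ OP (pv j) (pv i) := by
  have hc : allLt (fun i => force (om i) fun M => force (hv i) fun u => allLt (fun j =>
      !M.testBit j || (!Nat.beq i j && Nat.beq (hc (hv j) u) 0 && Nat.beq (hc u (hv j)) 0)) 126)
      126 = true := by decide +kernel
  simp only [allLt_iff, force_eq, Bool.and_eq_true, Bool.or_eq_true, Nat.beq_eq,
    Bool.not_eq_true'] at hc
  obtain ⟨⟨h1, h2⟩, h3⟩ := (hc i hi j hj).resolve_left (by simp [h])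
  have h4 : rf (pv i) ≠ rf (pv j) := fun e => Nat.ne_of_beq_eq_false h1 (pv_inj hi hj e)
  exact ⟨⟨root_pv hi, root_pv hj, ((root_pv hi).fix_iff _).2 (by rwa [code_pv, code_pv]), h4⟩,
    ⟨root_pv hj, root_pv hi, ((root_pv hj).fix_iff _).2 (by rwa [code_pv, code_pv]), h4.symm⟩⟩

theorem exists_common {i j : ℕ} (hi : i < 126) (hj : j < 126) : ∃ l < 126,
    (om 0).testBit l = true ∧ (om i).testBit l = true ∧ (om j).testBit l = true := by
  have hc : force (om 0) (fun M => Nat.blt M (2 ^ 126) && allLt (fun i => force (M &&& om i) fun N =>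
      allLt (fun j => !Nat.beq (N &&& om j) 0) 126) 126) = true := by decide +kernel
  simp only [allLt_iff, force_eq, Bool.and_eq_true, Nat.blt_eq, Bool.not_eq_true'] at hc
  obtain ⟨l, hl⟩ := Nat.exists_testBit_of_ne_zero (Nat.ne_of_beq_eq_false (hc.2 i hi j hj))
  simp only [Nat.testBit_and, Bool.and_eq_true] at hl
  refine ⟨l, by_contra fun hn => ?_, hl.1.1, hl.1.2, hl.2⟩
  rw [Nat.testBit_lt_two_pow (hc.1.trans_le (Nat.pow_le_pow_right (by decide) (not_lt.1 hn)))] at hl
  exact absurd hl.1.1 (by decide)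

end CL.F24P
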