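import Cfsg.Agent.SPOR.F24P.TopM
set_option autoImplicit false
set_option Elab.async false
set_option maxRecDepth 100000

namespace CL.F24P.Top
open CL.CE CL.K

theorem blk4 : cert.alive (nat_lit 25664) (nat_lit 101) (nat_lit 64) = 0 := by decide +kernel
theorem blk5 : cert.alive (nat_lit 32128) (nat_lit 102) (nat_lit 64) = 0 := by decide +kernel
theorem blk6 : cert.alive (nat_lit 38656) (nat_lit 103) (nat_lit 64) = 0 := by decide +kernel
theorem blk7 : cert.alive (nat_lit 45248) (nat_lit 100) (nat_lit 64) = 0 := by decide +kernel

end CL.F24P.Top
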