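import Cfsg.Agent.SPOR.F24P.TopM
set_option autoImplicit false
set_option Elab.async false
set_option maxRecDepth 100000

namespace CL.F24P.Top
open CL.CE CL.K

theorem blk16 : cert.alive (nat_lit 103936) (nat_lit 101) (nat_lit 64) = 0 := by decide +kernel
theorem blk17 : cert.alive (nat_lit 110400) (nat_lit 101) (nat_lit 64) = 0 := by decide +kernel
theorem blk18 : cert.alive (nat_lit 116864) (nat_lit 104) (nat_lit 64) = 0 := by decide +kernel
theorem blk19 : cert.alive (nat_lit 123520) (nat_lit 101) (nat_lit 64) = 0 := by decide +kernel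

end CL.F24P.Top
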