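import Cfsg.Agent.SPOR.F24P.TopM
set_option autoImplicit false
set_option Elab.async false
set_option maxRecDepth 100000

namespace CL.F24P.Top
open CL.CE CL.K

theorem blk28 : cert.alive (nat_lit 182208) (nat_lit 103) (nat_lit 64) = 0 := by decide +kernel
theorem blk29 : cert.alive (nat_lit 188800) (nat_lit 106) (nat_lit 64) = 0 := by decide +kernel
theorem blk30 : cert.alive (nat_lit 195584) (nat_lit 98) (nat_lit 64) = 0 := by decide +kernel
theorem blk31 : cert.alive (nat_lit 201856) (nat_lit 101) (nat_lit 64) = 0 := by decide +kernel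

end CL.F24P.Top
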